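import Groth.Prelude.Def_Curv2
import Mathlib.AlgebraicGeometry.Sites.Fpqc
import Mathlib.FieldTheory.Galois.Basic
import Mathlib.FieldTheory.PrimitiveElement

/-!
# Galois descent for morphisms
-/

universe u

open CategoryTheory CategoryTheory.Limits AlgebraicGeometry TopologicalSpace

set_option backward.isDefEq.respectTransparency.types false

namespace Groth.Agent.GalDesc12

variable (k : Type u) [Field k] (K : Type u) [Field K] [Algebra k K]
  (X : Scheme.{u}) [X.Over (Spec (CommRingCat.of k))]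

theorem effectiveEpi_bcFst : EffectiveEpi (Curv2.bcFst k X K) := by
  haveI : Surjective (Spec.map (CommRingCat.ofHom (algebraMap k K))) :=
    ⟨Function.surjective_to_subsingleton (α := ↥(Spec (CommRingCat.of K)))
      (β := PrimeSpectrum k) _⟩
  haveI : Flat (Spec.map (CommRingCat.ofHom (algebraMap k K))) :=
    (HasRingHomProperty.Spec_iff (P := @Flat)).2 (RingHom.flat_algebraMap_iff.2 inferInstance)
  infer_instance

theorem galAct_fst (σ : K ≃ₐ[k] K) :
    Curv2.galAct k X K σ ≫ Curv2.bcFst k X K = Curv2.bcFst k X K := by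
  rw [Curv2.galAct, pullback.map]
  exact (pullback.lift_fst ..).trans (Category.comp_id _)

theorem galAct_snd (σ : K ≃ₐ[k] K) :
    Curv2.galAct k X K σ ≫ Curv2.bcSnd k X K =
      Curv2.bcSnd k X K ≫ Spec.map (CommRingCat.ofHom (σ : K →ₐ[k] K).toRingHom) := by
  rw [Curv2.galAct, pullback.map]
  exact pullback.lift_snd ..

variable [FiniteDimensional k K] [IsGalois k K]

/-- In a ring where two embeddings of `K` agree on `k`, one is locally a Galois twist of the other. -/
theorem exists_factor {R : Type u} [CommRing R] (a b : K →+* R)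
    (h : ∀ c : k, a (algebraMap k K c) = b (algebraMap k K c)) :
    ∃ t : K, (∏ σ : K ≃ₐ[k] K, (b t - a (σ t))) = 0 ∧
      (∀ σ τ : K ≃ₐ[k] K, σ ≠ τ → IsUnit (a (σ t) - a (τ t))) ∧
      ∀ (R' : Type u) [CommRing R'] (r : R →+* R') (σ : K ≃ₐ[k] K),
        r (b t) = r (a (σ t)) → r.comp b = r.comp (a.comp (σ : K →ₐ[k] K).toRingHom) := by
  classical
  let pb := Field.powerBasisOfFiniteOfSeparable k K
  let α := pb.gen
  have hne : ∀ σ τ : K ≃ₐ[k] K, σ ≠ τ → σ α ≠ τ α := fun σ τ hne he =>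
    hne (AlgEquiv.ext fun x => AlgHom.congr_fun
      (pb.algHom_ext (f := (σ : K →ₐ[k] K)) (g := (τ : K →ₐ[k] K)) he) x)
  let Q : Polynomial K := ∏ σ : K ≃ₐ[k] K, (Polynomial.X - Polynomial.C (σ α))
  let P : Polynomial K := (minpoly k α).map (algebraMap k K)
  have hPQ : Q = P := by
    have hPm : P.Monic := (minpoly.monic (Algebra.IsIntegral.isIntegral α)).map _
    have hQm : Q.Monic := Polynomial.monic_prod_of_monic _ _ fun σ _ => Polynomial.monic_X_sub_C _
    have hdvd : Q ∣ P := by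
      refine Fintype.prod_dvd_of_coprime ?_ fun σ => ?_
      · intro σ τ hst
        exact Polynomial.isCoprime_X_sub_C_of_isUnit_sub (isUnit_iff_ne_zero.2 (sub_ne_zero.2 (hne σ τ hst)))
      · rw [Polynomial.dvd_iff_isRoot, Polynomial.IsRoot.def, Polynomial.eval_map_algebraMap,
          show σ α = (σ : K →ₐ[k] K) α from rfl, Polynomial.aeval_algHom_apply, minpoly.aeval, map_zero]
    refine (Polynomial.eq_of_monic_of_dvd_of_natDegree_le hQm hPm hdvd ?_).symm
    rw [Polynomial.natDegree_prod_of_monic _ _ fun σ _ => Polynomial.monic_X_sub_C _]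
    simp only [Polynomial.natDegree_X_sub_C, Finset.sum_const, smul_eq_mul, mul_one, P,
      Polynomial.natDegree_map, Finset.card_univ, ← Nat.card_eq_fintype_card,
      IsGalois.card_aut_eq_finrank]
    rw [pb.finrank, ← pb.natDegree_minpoly]
  refine ⟨α, ?_, fun σ τ hst => ?_, fun R' _ r σ hr => ?_⟩
  · have h1 := congrArg (Polynomial.eval₂ a (b α)) hPQ
    rw [Polynomial.eval₂_finset_prod] at h1
    simp only [Polynomial.eval₂_sub, Polynomial.eval₂_X, Polynomial.eval₂_C] at h1
    rw [h1, Polynomial.eval₂_map, RingHom.ext (f := a.comp (algebraMap k K))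
      (g := b.comp (algebraMap k K)) h, ← Polynomial.hom_eval₂, ← Polynomial.aeval_def,
      minpoly.aeval, map_zero]
  · rw [← map_sub]
    exact (isUnit_iff_ne_zero.2 (sub_ne_zero.2 (hne σ τ hst))).map a
  · letI : Algebra k R' := (r.comp (b.comp (algebraMap k K))).toAlgebra
    let F : K →ₐ[k] R' := { r.comp b with commutes' := fun c => rfl }
    let G : K →ₐ[k] R' :=
      { r.comp (a.comp (σ : K →ₐ[k] K).toRingHom) with
        commutes' := fun c => by
          show r (a (σ (algebraMap k K c))) = r (b (algebraMap k K c))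
          rw [σ.commutes, h] }
    exact congrArg AlgHom.toRingHom (pb.algHom_ext (f := F) (g := G) hr)

/-- Two lifts to `X_K` of the same morphism to `X` differ locally by Galois elements. -/
theorem exists_cover {Z : Scheme.{u}} (a b : Z ⟶ Curv2.bc k X K)
    (hab : a ≫ Curv2.bcFst k X K = b ≫ Curv2.bcFst k X K) :
    ∃ U : (K ≃ₐ[k] K) → Z.Opens, IsOpenCover U ∧
      ∀ σ, (U σ).ι ≫ b = (U σ).ι ≫ a ≫ Curv2.galAct k X K σ := by
  classical
  let toRing : (Z ⟶ Spec (CommRingCat.of K)) → (K →+* Γ(Z, ⊤)) := fun s =>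
    ((Scheme.ΓSpecIso (.of K)).inv ≫ s.appTop).hom
  let a' := toRing (a ≫ Curv2.bcSnd k X K)
  let b' := toRing (b ≫ Curv2.bcSnd k X K)
  have hk : ∀ c : k, a' (algebraMap k K c) = b' (algebraMap k K c) := by
    intro c
    have e : (a ≫ Curv2.bcSnd k X K) ≫ Spec.map (CommRingCat.ofHom (algebraMap k K)) =
        (b ≫ Curv2.bcSnd k X K) ≫ Spec.map (CommRingCat.ofHom (algebraMap k K)) := by
      rw [Category.assoc, Category.assoc, ← pullback.condition, ← Category.assoc, hab, Category.assoc]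
    have e' := congrArg (fun s => (Scheme.ΓSpecIso (.of k)).inv ≫ s.appTop) e
    simp only [Scheme.Hom.comp_appTop] at e'
    rw [← Scheme.ΓSpecIso_inv_naturality_assoc, ← Scheme.ΓSpecIso_inv_naturality_assoc] at e'
    exact ConcreteCategory.congr_hom e' c
  obtain ⟨t, hprod, hunit, hext⟩ := exists_factor k K a' b' hk
  let d : (K ≃ₐ[k] K) → Γ(Z, ⊤) := fun σ => b' t - a' (σ t)
  let U : (K ≃ₐ[k] K) → Z.Opens := fun σ => Z.basicOpen (∏ τ ∈ Finset.univ.erase σ, d τ)
  refine ⟨U, ?_, fun σ => ?_⟩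
  · refine top_le_iff.1 fun z _ => Opens.mem_iSup.2 ?_
    let γ := (Z.presheaf.germ ⊤ z trivial).hom
    have hz : ∏ τ : K ≃ₐ[k] K, γ (d τ) = 0 := by rw [← map_prod, hprod, map_zero]
    obtain ⟨σ, hσ⟩ : ∃ σ, ¬IsUnit (γ (d σ)) := by
      by_contra hh
      simp only [not_exists, not_not] at hh
      exact not_isUnit_zero (hz ▸ IsUnit.prod_univ_iff.2 hh)
    refine ⟨σ, (Z.mem_basicOpen_top _ z).2 ?_⟩
    change IsUnit (γ _)
    rw [map_prod, IsUnit.prod_iff]
    intro τ hτ
    by_contra hτ'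
    have hu : IsUnit (γ (a' (σ t) - a' (τ t))) :=
      (hunit σ τ (Finset.ne_of_mem_erase hτ).symm).map γ
    rw [show a' (σ t) - a' (τ t) = d τ - d σ by simp [d], map_sub] at hu
    have hm : γ (d τ) - γ (d σ) ∈ IsLocalRing.maximalIdeal _ :=
      (IsLocalRing.maximalIdeal (Z.presheaf.stalk z)).sub_mem
        ((IsLocalRing.mem_maximalIdeal _).2 hτ') ((IsLocalRing.mem_maximalIdeal _).2 hσ)
    exact (IsLocalRing.mem_maximalIdeal _).1 hm hu
  · let r : Γ(Z, ⊤) →+* Γ(U σ, ⊤) := (U σ).ι.appTop.hom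
    have hr : r (b' t) = r (a' (σ t)) := by
      rw [← sub_eq_zero, ← map_sub]
      have h1 : r (d σ) * r (∏ τ ∈ Finset.univ.erase σ, d τ) = 0 := by
        rw [← map_mul, Finset.mul_prod_erase _ _ (Finset.mem_univ σ), hprod, map_zero]
      refine (IsUnit.mul_left_eq_zero ?_).1 h1
      refine (U σ).toScheme.toRingedSpace.isUnit_of_isUnit_germ ⊤ _ fun x hx => ?_
      have hx' : x ∈ (U σ).ι ⁻¹ᵁ Z.basicOpen (∏ τ ∈ Finset.univ.erase σ, d τ) := x.2
      rw [Scheme.preimage_basicOpen_top] at hx'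
      exact ((U σ).toScheme.mem_basicOpen_top _ x).1 hx'
    have hcomp := hext _ r σ hr
    apply pullback.hom_ext
    · simp only [Category.assoc]
      rw [galAct_fst, hab]
    · simp only [Category.assoc]
      rw [galAct_snd]
      refine ext_of_isAffine ?_
      rw [← cancel_epi (Scheme.ΓSpecIso (.of K)).inv]
      simp only [Scheme.Hom.comp_appTop, Category.assoc]
      rw [← Scheme.ΓSpecIso_inv_naturality_assoc]
      ext x
      exact RingHom.congr_fun hcomp x

end Groth.Agent.GalDesc12
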